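import Mathlib

/-!
# The field with 64 elements on codes, and the finite search for `q = 8`

A code `x < 64` stands for `a + b ω` with `a = x % 8`, `b = x / 8` codes of the field with 8
elements (bit `i` is the coefficient of `v ^ i`, `v ^ 3 = v + 1`) and `ω ^ 2 = ω + 1`.
A state of a nonzero `α` is the class of `P α` modulo cubes together with the code of `A α`.
-/

set_option autoImplicit false

namespace Cfsg.Agent.Involutions.RankOne.U3.Eight

/-- The product of two codes of the field with 8 elements. -/
def mul8 (a b : ℕ) : ℕ :=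
  (2821848294356612419217921029917578219971947684264937521152 >>> (3 * (8 * a + b))) &&& 7

/-- The square of a code of the field with 8 elements. -/
def sq8 (a : ℕ) : ℕ := (7072520 >>> (3 * a)) &&& 7

/-- The product of two codes. -/
def mul (x y : ℕ) : ℕ :=
  let bd := mul8 (x / 8) (y / 8)
  (mul8 (x % 8) (y % 8) ^^^ bd) +
    8 * (mul8 (x % 8) (y / 8) ^^^ mul8 (x / 8) (y % 8) ^^^ bd)

/-- The inverse of a code. -/
def inv (x : ℕ) : ℕ :=
  (20112454616805010035879679261724451395823665977477181630222997389660422770026330711786519242867333064881785080926272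
    >>> (6 * x)) &&& 63

/-- The class of a code modulo cubes. -/
def cls (x : ℕ) : ℕ := (50034404390433379008730663835120173056 >>> (2 * x)) &&& 3

/-- The eighth power of a code. -/
def cj (x : ℕ) : ℕ := x ^^^ (x / 8)

/-- The ninth power of a code. -/
def nm (x : ℕ) : ℕ := mul x (cj x)

/-- The automorphisms of odd order. -/
def sg (k x : ℕ) : ℕ :=
  match k with
  | 0 => x
  | 1 => sq8 (x % 8) + 8 * sq8 (x / 8)
  | _ => sq8 (sq8 (x % 8)) + 8 * sq8 (sq8 (x / 8))

/-- The three forms. -/
def form (f x : ℕ) : ℕ :=
  match f with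
  | 0 => nm x
  | 1 => mul 10 (mul x (mul x x)) / 8
  | _ => mul 11 (mul x (mul x x)) / 8

/-- For each form, the elements with a given class and value. -/
def formTbl (f : ℕ) : ℕ :=
  match f with
  | 0 => 4552118479394156514196722601866660097101811440426954423739439513306810807939671729760337386702100964651200043174792906906353795072
  | 1 => 4552123695367357463480197998810000017689959799282564355094854962826549353936846131386610714426250851065982342074345932846191083520
  | _ => 10877435685176299368283547181579544793194759126438031197095885247924147680773551511550425323879966325036838809451304520366585806848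

/-- The `i`th element of a slot. -/
def elt (f c a i : ℕ) : ℕ := (formTbl f >>> (18 * (8 * c + a) + 6 * i)) &&& 63

/-- The element `x` is in the slot. -/
def inSlot (f c a x : ℕ) : Bool :=
  elt f c a 0 == x || elt f c a 1 == x || elt f c a 2 == x

/-- An element of one slot and an element of another add up to an element of the third. -/
def sumOK (f : ℕ) (s₁ s₂ s : ℕ × ℕ) : Bool :=
  let t x := inSlot f s.1 s.2 (elt f s₁.1 s₁.2 x ^^^ elt f s₂.1 s₂.2 0) ||
    inSlot f s.1 s.2 (elt f s₁.1 s₁.2 x ^^^ elt f s₂.1 s₂.2 1) ||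
    inSlot f s.1 s.2 (elt f s₁.1 s₁.2 x ^^^ elt f s₂.1 s₂.2 2)
  t 0 || t 1 || t 2

/-- The value of a function of classes packed into a number. -/
def mval (M j : ℕ) : ℕ := (M >>> (3 * j)) &&& 7

/-- The value of a map of classes packed into a number. -/
def pval (p j : ℕ) : ℕ := (p >>> (2 * j)) &&& 3

/-- The state of the image of an element of state `s` at the point `B`. -/
def act (M B : ℕ) (s : ℕ × ℕ) : ℕ × ℕ :=
  let j := (s.1 + cls B) % 3
  (j, mul (mul (mval M j) s.2) (inv (mul (mval M s.1) (nm B))))

/-- The point with the given state and parameter. -/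
def pt (M : ℕ) (s : ℕ × ℕ) (u : ℕ) : ℕ := mul (mul s.2 (inv (mval M s.1))) (8 + u)

/-- The two equations without `z` of the structure equation; they give `μ`. -/
def eqs (M k : ℕ) (s : ℕ × ℕ) (B : ℕ) : Bool :=
  let s₁ := act M B s
  let B₁ := inv B ^^^ s₁.2
  let sH := act M B₁ s₁
  let Bt := B ^^^ s.2
  let sG := act M Bt s
  let bG := inv Bt ^^^ sG.2
  inv B₁ == mul (mul sH.2 (inv (sg k sG.2))) (sg k bG)

/-- The state with the class of the preimage. -/
def pre (p : ℕ) (s : ℕ × ℕ) : ℕ × ℕ := (pval p s.1, s.2)

/-- The equation with `z`. -/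
def zeq (f p M k : ℕ) (s : ℕ × ℕ) (B z : ℕ) : Bool :=
  let s₁ := act M B s
  let B₁ := inv B ^^^ s₁.2
  let sH := act M B₁ s₁
  let sG := act M (B ^^^ s.2) s
  let μ := mul sH.2 (inv (sg k sG.2))
  sumOK f (pre p s₁) (pre p (act M (inv B₁ ^^^ mul μ (sg k z)) sH))
    (pre p (act M (B ^^^ inv z) s))

/-- The whole structure equation. -/
def basicOK (f p M k : ℕ) (s : ℕ × ℕ) (B : ℕ) : Bool :=
  eqs M k s B && (List.range 7).all fun z => zeq f p M k s B (z + 1)

/-- The packed permutations. -/
def perms : List ℕ := [36, 24, 33, 9, 18, 6]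

/-- The packed functions passing the first test. -/
def cands : List ℕ := [73, 239, 253, 351, 379, 477, 491]

theorem check_one : ∀ M < 512, (∀ i < 3, mval M i ≠ 0) →
    (∀ i < 3, ∀ u < 8, ∃ k < 3, eqs M k (i, 1) (pt M (i, 1) u) = true) → M ∈ cands := by
  decide +kernel

theorem check_two : ∀ f < 3, ∀ p ∈ perms, ∀ M ∈ cands,
      (f = 0 ∧ M = 73) ∨ ∀ k < 3, basicOK f p M k (0, 1) (pt M (0, 1) 0) = false := by
  decide +kernel

theorem check_three : ∀ p ∈ perms, ∀ k < 3, k ≠ 0 → ∀ j < 3, ∀ a < 8, a ≠ 0 → ∀ u < 8,
    basicOK 0 p 73 k (j, a) (pt 73 (j, a) u) = false := by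
  decide +kernel

theorem slot_complete : ∀ f < 3, ∀ x < 64, x ≠ 0 → inSlot f (cls x) (form f x) x = true := by
  decide +kernel

end Cfsg.Agent.Involutions.RankOne.U3.Eight
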