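import Mathlib
import Cfsg.Agent.Lib.Involutions.RankOne.U3.Eight.Code

/-!
# Codes are the field with 64 elements
-/

set_option autoImplicit false

namespace Cfsg.Agent.Involutions.RankOne.U3.Eight

section facts

theorem and_seven_lt (x : ℕ) : x &&& 7 < 8 := Nat.lt_succ_of_le Nat.and_le_right

theorem mul8_lt (a b : ℕ) : mul8 a b < 8 := and_seven_lt _

theorem xor_lt_eight {a b : ℕ} (ha : a < 8) (hb : b < 8) : a ^^^ b < 8 :=
  Nat.xor_lt_two_pow (n := 3) ha hb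

theorem xor_lt {a b : ℕ} (ha : a < 64) (hb : b < 64) : a ^^^ b < 64 :=
  Nat.xor_lt_two_pow (n := 6) ha hb

theorem mul_lt (x y : ℕ) : mul x y < 64 := by
  have h1 := xor_lt_eight (mul8_lt (x % 8) (y % 8)) (mul8_lt (x / 8) (y / 8))
  have h2 := xor_lt_eight (xor_lt_eight (mul8_lt (x % 8) (y / 8)) (mul8_lt (x / 8) (y % 8)))
    (mul8_lt (x / 8) (y / 8))
  simp only [mul]
  omega

theorem mul_mod (x y : ℕ) :
    mul x y % 8 = mul8 (x % 8) (y % 8) ^^^ mul8 (x / 8) (y / 8) ∧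
    mul x y / 8 = mul8 (x % 8) (y / 8) ^^^ mul8 (x / 8) (y % 8) ^^^ mul8 (x / 8) (y / 8) := by
  have h1 := xor_lt_eight (mul8_lt (x % 8) (y % 8)) (mul8_lt (x / 8) (y / 8))
  have h2 := xor_lt_eight (xor_lt_eight (mul8_lt (x % 8) (y / 8)) (mul8_lt (x / 8) (y % 8)))
    (mul8_lt (x / 8) (y / 8))
  simp only [mul]
  omega

theorem xor_mod : ∀ x < 64, ∀ y < 64, (x ^^^ y) % 8 = x % 8 ^^^ y % 8 ∧
    (x ^^^ y) / 8 = x / 8 ^^^ y / 8 := by
  decide +kernel

theorem xor_bits : ∀ a < 8, ∀ b < 8, (a ^^^ b) % 2 = (a % 2 + b % 2) % 2 ∧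
    (a ^^^ b) / 2 % 2 = (a / 2 % 2 + b / 2 % 2) % 2 ∧
    (a ^^^ b) / 4 % 2 = (a / 4 % 2 + b / 4 % 2) % 2 := by
  decide +kernel

theorem times_v : ∀ a < 8, mul8 2 a % 2 = a / 4 % 2 ∧
    mul8 2 a / 2 % 2 = (a % 2 + a / 4 % 2) % 2 ∧ mul8 2 a / 4 % 2 = a / 2 % 2 := by
  decide +kernel

theorem mul8_split : ∀ a < 8, ∀ b < 8, mul8 a b =
    ((if a % 2 = 1 then b else 0) ^^^ (if a / 2 % 2 = 1 then mul8 2 b else 0)) ^^^
      (if a / 4 % 2 = 1 then mul8 2 (mul8 2 b) else 0) := by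
  decide +kernel

theorem sq8_eq : ∀ a < 8, sq8 a = mul8 a a ∧ sq8 a < 8 := by
  decide +kernel

theorem inv_spec : ∀ x < 64, inv x < 64 ∧ (x ≠ 0 → mul x (inv x) = 1) ∧ (x = 0 → inv x = 0) := by
  decide +kernel

theorem cj_eq : ∀ x < 64, cj x = mul (mul (mul x x) (mul x x)) (mul (mul x x) (mul x x)) ∧
    (cj x = x ↔ x < 8) := by
  decide +kernel

theorem cls_mul : ∀ x < 64, ∀ y < 64, x ≠ 0 → y ≠ 0 →
    cls (mul x y) = (cls x + cls y) % 3 := by
  decide +kernel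

theorem cls_lt : ∀ x < 64, cls x < 3 := by
  decide +kernel

theorem cls_zero : ∀ x < 64, x ≠ 0 → cls x = 0 → ∃ c < 64, mul c (mul c c) = x := by
  decide +kernel

theorem exists_rep : ∀ j < 3, ∀ a < 8, a ≠ 0 → ∃ x < 64, x ≠ 0 ∧ cls x = j ∧ nm x = a := by
  decide +kernel

theorem roots_v : ∀ k < 64, mul k (mul k k) = k ^^^ 1 → k = 2 ∨ k = 4 ∨ k = 6 := by
  decide +kernel

end facts

variable {F : Type*} [Field F] {v w : F}

/-- The element with the given code of the field with 8 elements. -/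
def ev8 (v : F) (a : ℕ) : F :=
  ((a % 2 : ℕ) : F) + ((a / 2 % 2 : ℕ) : F) * v + ((a / 4 % 2 : ℕ) : F) * v ^ 2

/-- The element with the given code. -/
def ev (v w : F) (x : ℕ) : F := ev8 v (x % 8) + ev8 v (x / 8) * w

theorem cast_mod_two (h2 : (2 : F) = 0) (n : ℕ) : ((n % 2 : ℕ) : F) = n := by
  conv_rhs => rw [← Nat.mod_add_div n 2, Nat.cast_add, Nat.cast_mul]
  simp [h2]

theorem ev8_xor (h2 : (2 : F) = 0) (v : F) {a b : ℕ} (ha : a < 8) (hb : b < 8) :
    ev8 v (a ^^^ b) = ev8 v a + ev8 v b := by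
  obtain ⟨e0, e1, e2⟩ := xor_bits a ha b hb
  rw [ev8, e0, e1, e2, cast_mod_two h2 (a % 2 + _), cast_mod_two h2 (a / 2 % 2 + _),
    cast_mod_two h2 (a / 4 % 2 + _), ev8, ev8]
  push_cast
  ring

theorem ev8_times (h2 : (2 : F) = 0) (hv : v ^ 3 = v + 1) {a : ℕ} (ha : a < 8) :
    ev8 v (mul8 2 a) = v * ev8 v a := by
  obtain ⟨e0, e1, e2⟩ := times_v a ha
  rw [ev8, e0, e1, e2, cast_mod_two h2 (a % 2 + _), ev8]
  push_cast
  linear_combination (-((a / 4 % 2 : ℕ) : F)) * hv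

theorem ev8_zero (v : F) : ev8 v 0 = 0 := by simp [ev8]

theorem ev8_mul (h2 : (2 : F) = 0) (hv : v ^ 3 = v + 1) {a b : ℕ} (ha : a < 8) (hb : b < 8) :
    ev8 v (mul8 a b) = ev8 v a * ev8 v b := by
  have hl : ∀ (c : Prop) [Decidable c] (y : ℕ), y < 8 → (if c then y else 0) < 8 := by
    intro c _ y hy; split <;> omega
  rw [mul8_split a ha b hb, ev8_xor h2 v (xor_lt_eight (hl _ _ hb) (hl _ _ (mul8_lt _ _)))
    (hl _ _ (mul8_lt _ _)), ev8_xor h2 v (hl _ _ hb) (hl _ _ (mul8_lt _ _))]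
  have e1 := ev8_times h2 hv hb
  have e2 : ev8 v (mul8 2 (mul8 2 b)) = v * (v * ev8 v b) := by
    rw [ev8_times h2 hv (mul8_lt 2 b), e1]
  simp only [apply_ite (ev8 v), ev8_zero, e1, e2]
  conv_rhs => rw [ev8]
  rcases Nat.mod_two_eq_zero_or_one a with p | p <;>
    rcases Nat.mod_two_eq_zero_or_one (a / 2) with q | q <;>
    rcases Nat.mod_two_eq_zero_or_one (a / 4) with r | r <;>
    simp [p, q, r] <;> ring

theorem ev8_sq (h2 : (2 : F) = 0) (u : F) (a : ℕ) : ev8 (u ^ 2) a = ev8 u a ^ 2 := by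
  have hb : ∀ n : ℕ, ((n % 2 : ℕ) : F) ^ 2 = ((n % 2 : ℕ) : F) := by
    intro n; rcases Nat.mod_two_eq_zero_or_one n with p | p <;> simp [p]
  unfold ev8
  linear_combination (-1 : F) * hb a - u ^ 2 * hb (a / 2) - u ^ 4 * hb (a / 4) -
    (((a % 2 : ℕ) : F) * ((a / 2 % 2 : ℕ) : F) * u + ((a % 2 : ℕ) : F) * ((a / 4 % 2 : ℕ) : F) * u ^ 2
      + ((a / 2 % 2 : ℕ) : F) * ((a / 4 % 2 : ℕ) : F) * u ^ 3) * h2

theorem ev_zero (v w : F) : ev v w 0 = 0 := by simp [ev, ev8_zero]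

theorem ev_one (v w : F) : ev v w 1 = 1 := by simp [ev, ev8]

theorem ev_xor (h2 : (2 : F) = 0) (v w : F) {x y : ℕ} (hx : x < 64) (hy : y < 64) :
    ev v w (x ^^^ y) = ev v w x + ev v w y := by
  obtain ⟨e0, e1⟩ := xor_mod x hx y hy
  rw [ev, e0, e1, ev8_xor h2 v (by omega) (by omega), ev8_xor h2 v (by omega) (by omega), ev, ev]
  ring

/-- The data of a system of codes. -/
structure IsBasis (v w : F) : Prop where
  two : (2 : F) = 0
  hv : v ^ 3 = v + 1
  hw : w ^ 2 = w + 1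

namespace IsBasis

variable (H : IsBasis v w)
include H

theorem map_mul {x y : ℕ} (hx : x < 64) (hy : y < 64) :
    ev v w (mul x y) = ev v w x * ev v w y := by
  obtain ⟨e0, e1⟩ := mul_mod x y
  have a1 : x % 8 < 8 := by omega
  have a2 : x / 8 < 8 := by omega
  have b1 : y % 8 < 8 := by omega
  have b2 : y / 8 < 8 := by omega
  rw [ev, e0, e1, ev8_xor H.two v (mul8_lt _ _) (mul8_lt _ _),
    ev8_xor H.two v (xor_lt_eight (mul8_lt _ _) (mul8_lt _ _)) (mul8_lt _ _),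
    ev8_xor H.two v (mul8_lt _ _) (mul8_lt _ _), ev8_mul H.two H.hv a1 b1,
    ev8_mul H.two H.hv a2 b2, ev8_mul H.two H.hv a1 b2, ev8_mul H.two H.hv a2 b1, ev, ev]
  linear_combination (-(ev8 v (x / 8) * ev8 v (y / 8))) * H.hw

theorem eq_zero {x : ℕ} (hx : x < 64) (h : ev v w x = 0) : x = 0 := by
  by_contra hne
  obtain ⟨hl, hm, -⟩ := inv_spec x hx
  have := H.map_mul hx hl
  rw [hm hne, ev_one, h, zero_mul] at this
  exact one_ne_zero this

theorem inj {x y : ℕ} (hx : x < 64) (hy : y < 64) (h : ev v w x = ev v w y) : x = y := by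
  have := H.eq_zero (xor_lt hx hy) (by
    rw [ev_xor H.two v w hx hy, h]; linear_combination (ev v w y) * H.two)
  exact Nat.xor_eq_zero_iff.mp this

theorem bijective [Fintype F] (hc : Fintype.card F = 64) :
    Function.Bijective fun i : Fin 64 => ev v w i :=
  (Fintype.bijective_iff_injective_and_card _).mpr
    ⟨fun i j h => Fin.ext (H.inj i.isLt j.isLt h), by simp [hc]⟩

theorem map_inv {x : ℕ} (hx : x < 64) : ev v w (inv x) = (ev v w x)⁻¹ := by
  obtain ⟨hl, hm, h0⟩ := inv_spec x hx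
  by_cases hne : x = 0
  · rw [h0 hne, hne, ev_zero, inv_zero]
  · refine eq_inv_of_mul_eq_one_right ?_
    rw [← H.map_mul hx hl, hm hne, ev_one]

theorem map_cj {x : ℕ} (hx : x < 64) : ev v w (cj x) = ev v w x ^ 8 := by
  rw [(cj_eq x hx).1, H.map_mul (mul_lt _ _) (mul_lt _ _), H.map_mul (mul_lt _ _) (mul_lt _ _),
    H.map_mul hx hx]
  ring

theorem map_nm {x : ℕ} (hx : x < 64) : ev v w (nm x) = ev v w x ^ 9 := by
  have hl : cj x < 64 := xor_lt hx (by omega)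
  rw [nm, H.map_mul hx hl, H.map_cj hx]
  ring

/-- The automorphisms of odd order in terms of codes. -/
theorem exists_sg [Fintype F] (hc : Fintype.card F = 64) {σ : RingAut F}
    (hσ : Odd (orderOf σ)) :
    ∃ k < 3, (k = 0 → σ = 1) ∧ ∀ x < 64, σ (ev v w x) = ev v w (sg k x) := by
  obtain ⟨h2, hv, hw⟩ := id H
  have hw' : σ w ^ 2 = σ w + 1 := by rw [← map_pow, hw, map_add, map_one]
  have hσw : σ w = w := by
    have : (σ w - w) * (σ w - (w + 1)) = 0 := by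
      linear_combination hw' + hw + (1 + w - σ w * w) * h2
    rcases mul_eq_zero.mp this with e | e
    · exact sub_eq_zero.mp e
    · exfalso
      have e' : σ w = w + 1 := sub_eq_zero.mp e
      have hj : ∀ j : ℕ, (σ ^ (2 * j + 1)) w = w + 1 := by
        intro j
        induction j with
        | zero => simpa using e'
        | succ j ih =>
          have : 2 * (j + 1) + 1 = (2 * j + 1) + 1 + 1 := by ring
          rw [this, pow_succ', RingAut.mul_apply, pow_succ', RingAut.mul_apply, ih, map_add,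
            map_one, e', map_add, map_add, map_one, e']
          linear_combination h2
      obtain ⟨j, hjo⟩ := hσ
      have := hj j
      rw [← hjo, pow_orderOf_eq_one, RingAut.one_apply] at this
      exact one_ne_zero (left_eq_add.mp this)
  have hbij := H.bijective hc
  have hmap : ∀ a, σ (ev8 v a) = ev8 (σ v) a := by
    intro a; simp [ev8]
  have hσx : ∀ x, σ (ev v w x) = ev8 (σ v) (x % 8) + ev8 (σ v) (x / 8) * w := by
    intro x; rw [ev, map_add, _root_.map_mul, hmap, hmap, hσw]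
  have hsq : ∀ a < 8, ev8 (v ^ 2) a = ev8 v (sq8 a) := by
    intro a ha; rw [(sq8_eq a ha).1, ev8_mul h2 hv ha ha, ev8_sq h2, sq]
  have hsq2 : ∀ a < 8, ev8 ((v ^ 2) ^ 2) a = ev8 v (sq8 (sq8 a)) := by
    intro a ha
    rw [ev8_sq h2, hsq a ha, (sq8_eq _ (sq8_eq a ha).2).1,
      ev8_mul h2 hv (sq8_eq a ha).2 (sq8_eq a ha).2, sq]
  have hev : ∀ a b, a < 8 → ev v w (a + 8 * b) = ev8 v a + ev8 v b * w := by
    intro a b ha; rw [ev]; congr <;> omega
  obtain ⟨i, hi⟩ := hbij.2 (σ v)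
  simp only at hi
  have e2 : ev v w 2 = v := by simp [ev, ev8]
  have e4 : ev v w 4 = v ^ 2 := by simp [ev, ev8]
  have e6 : ev v w 6 = (v ^ 2) ^ 2 := by
    simp [ev, ev8]; linear_combination (-v) * hv
  have hr : mul (i : ℕ) (mul i i) = (i : ℕ) ^^^ 1 := by
    refine H.inj (mul_lt _ _) (xor_lt i.isLt (by norm_num)) ?_
    rw [H.map_mul i.isLt (mul_lt _ _), H.map_mul i.isLt i.isLt,
      ev_xor h2 v w i.isLt (by norm_num), hi, ev_one]
    have : σ v ^ 3 = σ v + 1 := by rw [← map_pow, hv, map_add, map_one]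
    linear_combination this
  rcases roots_v i i.isLt hr with e | e | e <;> rw [e] at hi
  · rw [e2] at hi
    refine ⟨0, by norm_num, fun _ => RingEquiv.ext fun y => ?_, fun x _ => by
      rw [hσx, ← hi]; rfl⟩
    obtain ⟨j, rfl⟩ := hbij.2 y
    rw [hσx, ← hi]; rfl
  · rw [e4] at hi
    refine ⟨1, by norm_num, by simp, fun x hx => ?_⟩
    rw [hσx, ← hi, hsq _ (by omega), hsq _ (by omega)]
    exact (hev _ _ (sq8_eq _ (by omega)).2).symm
  · rw [e6] at hi
    refine ⟨2, by norm_num, by simp, fun x hx => ?_⟩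
    rw [hσx, ← hi, hsq2 _ (by omega), hsq2 _ (by omega)]
    exact (hev _ _ (sq8_eq _ (sq8_eq _ (by omega)).2).2).symm

end IsBasis

theorem exists_unit_ne_one [Fintype F] {p : ℕ} (hp : p.Prime) (hd : p ∣ Nat.card Fˣ) :
    ∃ u : F, u ≠ 0 ∧ u ≠ 1 ∧ u ^ p = 1 := by
  classical
  have := Fact.mk hp
  obtain ⟨u, hu⟩ := exists_prime_orderOf_dvd_card' (G := Fˣ) p hd
  refine ⟨u, u.ne_zero, fun e => ?_, ?_⟩
  · rw [Units.val_eq_one.mp e, orderOf_one] at hu; exact hp.one_lt.ne hu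
  · rw [← Units.val_pow_eq_pow_val, ← hu, pow_orderOf_eq_one, Units.val_one]

theorem exists_basis [Fintype F] (hc : Fintype.card F = 64) : ∃ v w : F, IsBasis v w := by
  classical
  have h2 : (2 : F) = 0 := by
    have h : ((64 : ℕ) : F) = 0 := hc ▸ FiniteField.cast_card_eq_zero F
    have : (2 : F) ^ 6 = 0 := by rw [← h]; norm_num
    exact eq_zero_of_pow_eq_zero this
  have hu : Nat.card Fˣ = 63 := by rw [Nat.card_units, Nat.card_eq_fintype_card, hc]
  obtain ⟨a, -, ha1, ha⟩ := exists_unit_ne_one (F := F) (p := 3) (by norm_num) (by rw [hu]; norm_num)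
  obtain ⟨b, hb0, hb1, hb⟩ := exists_unit_ne_one (F := F) (p := 7) (by norm_num) (by rw [hu]; norm_num)
  have hw : a ^ 2 = a + 1 := by
    have : (a - 1) * (a ^ 2 + a + 1) = 0 := by linear_combination ha
    have h := (mul_eq_zero.mp this).resolve_left (sub_ne_zero.mpr ha1)
    linear_combination h - (a + 1) * h2
  have : (b - 1) * ((b ^ 3 + b + 1) * (b ^ 3 + b ^ 2 + 1)) = 0 := by
    linear_combination hb + (b ^ 3 * (b - 1)) * h2
  rcases mul_eq_zero.mp ((mul_eq_zero.mp this).resolve_left (sub_ne_zero.mpr hb1)) with h | h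
  · exact ⟨b, a, h2, by linear_combination h - (b + 1) * h2, hw⟩
  · refine ⟨b⁻¹, a, h2, ?_, hw⟩
    field_simp
    linear_combination h - (b ^ 2 + b ^ 3) * h2

end Cfsg.Agent.Involutions.RankOne.U3.Eight
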